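import Cfsg.Agent.Lib.Sporadic.LyLower.Simple
import Cfsg.Prelude.Def_Exceptional

/-!
# The Lyons group acting on the cosets of G₂(5) (owner: helper25)
-/

set_option autoImplicit false
set_option maxRecDepth 20000

namespace CfsgLib.Sporadic.LyInv

open Cfsg CfsgLib.Sporadic CfsgLib.Sporadic.LyGTwo CfsgLib.Sporadic.LyCoset
open CfsgLib.Sporadic.LyRep (rho rho_c_ne)

theorem finite_Ly : Finite Spor.Ly := Nat.finite_of_card_ne_zero (by rw [LyLower.card_eq]; norm_num)

theorem rho_injective : Function.Injective rho := by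
  refine (MonoidHom.ker_eq_bot_iff _).1 ?_
  have := LyLower.simple
  exact (rho.normal_ker.eq_bot_or_eq_top).resolve_right fun h =>
    rho_c_ne (MonoidHom.mem_ker.1 (h ▸ Subgroup.mem_top _))

theorem isG2_P4 : IsG2 P4 :=
  ⟨isSimple_P4, 5, (Nat.prime_five).isPrimePow, by norm_num, by rw [card_P4_eq]; norm_num⟩

theorem exists_perm {n : ℕ} [NeZero n] {G : Type*} [Group G] [IsSimpleGroup G] [Finite G] (K : Subgroup G)
    (hi : K.index = n) (hne : K ≠ ⊤) :
    ∃ (H : Subgroup (Equiv.Perm (Fin n))) (ψ : G ≃* H), MulAction.IsPretransitive H (Fin n) ∧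
      MulAction.stabilizer H (0 : Fin n) = K.map (ψ : G →* H) := by
  classical
  obtain ⟨e1⟩ : Nonempty ((G ⧸ K) ≃ Fin n) := ⟨Finite.equivFinOfCardEq (by rw [← hi]; rfl)⟩
  let e : (G ⧸ K) ≃ Fin n := e1.trans (Equiv.swap (e1 ((1 : G) : G ⧸ K)) 0)
  have he : e ((1 : G) : G ⧸ K) = 0 := Equiv.swap_apply_left _ _
  let act : G →* Equiv.Perm (Fin n) := e.permCongrHom.toMonoidHom.comp (MulAction.toPermHom G (G ⧸ K))
  have hact : ∀ g q, act g (e q) = e (g • q) := fun g q => by
    simp [act, Equiv.permCongrHom, Equiv.permCongr_apply]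
  have hinj : Function.Injective act := by
    refine (MonoidHom.ker_eq_bot_iff _).1 ((act.normal_ker.eq_bot_or_eq_top).resolve_right fun h => hne ?_)
    refine eq_top_iff.2 fun g _ => ?_
    have h1 := hact g ((1 : G) : G ⧸ K)
    rw [MonoidHom.mem_ker.1 (h ▸ Subgroup.mem_top g : g ∈ act.ker), Equiv.Perm.one_apply] at h1
    have h2 := e.injective h1
    rw [MulAction.Quotient.smul_coe, smul_eq_mul, mul_one, QuotientGroup.eq, inv_one, one_mul] at h2
    exact h2
  let ψ : G ≃* act.range := MonoidHom.ofInjective hinj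
  have hψ : ∀ g a, ψ g • a = act g a := fun g a => rfl
  refine ⟨act.range, ψ, ⟨fun a b => ?_⟩, ?_⟩
  · obtain ⟨p, rfl⟩ := e.surjective a
    obtain ⟨q, rfl⟩ := e.surjective b
    obtain ⟨g, rfl⟩ := MulAction.exists_smul_eq G p q
    exact ⟨ψ g, (hψ g _).trans (hact g p)⟩
  · ext x
    obtain ⟨g, rfl⟩ := ψ.surjective x
    rw [MulAction.mem_stabilizer_iff, hψ, ← he, hact, MulAction.Quotient.smul_coe, smul_eq_mul, mul_one,
      e.injective.eq_iff, QuotientGroup.eq, mul_one, inv_mem_iff]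
    refine ⟨fun h => ⟨g, h, rfl⟩, ?_⟩
    rintro ⟨k, hk, h⟩
    rwa [← ψ.injective h]

end CfsgLib.Sporadic.LyInv
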