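import Cfsg.Agent.Lib.Sporadic.LyInv.ElDefs
import Cfsg.Agent.Lib.Sporadic.LyInv.ElData2
import Cfsg.Agent.Lib.Sporadic.LyCoset.Cover2

set_option autoImplicit false
set_option maxRecDepth 20000
set_option Elab.async false

/-! The elements of the stabiliser 2 and its involutions (owner: helper25). -/

namespace CfsgLib.Sporadic.LyInv

open CfsgLib.Sporadic.LyCoset

theorem el2_sorted : sortedE elQ2 6048 = true := by decide +kernel

theorem el2_one : Nat.blt elOne2 6048 = true ∧ matchE (fun i => expC (Nat.shiftLeft 1 (3 * i))) (elQ2.get elOne2) = true := by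
  decide +kernel

theorem el2_steps : goE (elStep elQ2 rows2) 6048 elSteps2 (Nat.shiftLeft 1 elOne2) = 2 ^ 6048 - 1 := by decide +kernel

theorem el2_count : countInv elQ2 6048 = 63 := by decide +kernel

end CfsgLib.Sporadic.LyInv
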