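import Cfsg.Agent.Lib.Sporadic.LyInv.ElDefs
import Cfsg.Agent.Lib.Sporadic.LyInv.ElData3
import Cfsg.Agent.Lib.Sporadic.LyCoset.Cover3

set_option autoImplicit false
set_option maxRecDepth 20000
set_option Elab.async false

/-! The elements of the stabiliser 3 and its involutions (owner: helper25). -/

namespace CfsgLib.Sporadic.LyInv

open CfsgLib.Sporadic.LyCoset

theorem el3_sorted : sortedE elQ3 1008 = true := by decide +kernel

theorem el3_one : Nat.blt elOne3 1008 = true ∧ matchE (fun i => expC (Nat.shiftLeft 1 (3 * i))) (elQ3.get elOne3) = true := by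
  decide +kernel

theorem el3_steps : goE (elStep elQ3 rows3) 1008 elSteps3 (Nat.shiftLeft 1 elOne3) = 2 ^ 1008 - 1 := by decide +kernel

theorem el3_count : countInv elQ3 1008 = 105 := by decide +kernel

end CfsgLib.Sporadic.LyInv
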