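import Cfsg.Agent.Lib.Sporadic.LyInv.ConjCheck
import Cfsg.Agent.Lib.Sporadic.LyInv.FixCheck
import Cfsg.Agent.Lib.Sporadic.LyInv.ElCheck2
import Cfsg.Agent.Lib.Sporadic.LyInv.ElCheck3
import Cfsg.Agent.Lib.Sporadic.LyInv.ElCheck4
import Cfsg.Agent.Lib.Sporadic.LyLower.Stab

/-!
# The centraliser of the involution has order at most 39916800 (owner: helper25)
-/

set_option autoImplicit false
set_option maxRecDepth 20000

namespace CfsgLib.Sporadic.LyInv

open Cfsg CfsgLib.Sporadic CfsgLib.Sporadic.LyGTwo CfsgLib.Sporadic.LyCoset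
open CfsgLib.Recog.SporBound (Q)

theorem one_mem14 : 1 ∈ [1, 2, 3, 4] := by simp

theorem coset_reps : ∃ n : Fin 19530 → P4, (∀ t, stateOf (n t) = stOf (tab t.val)) ∧
    ∀ g, ∃ t, ∃ m ∈ gensK 1, g = n t * m := by
  classical
  choose n hn hs using fun t : Fin 19530 => (reach_all one_mem14 t.isLt).2
  refine ⟨n, hs, fun g => ?_⟩
  let f : Fin 19530 × gensK 1 → P4 := fun x => n x.1 * x.2.1
  have hf : Function.Injective f := by
    rintro ⟨t, m⟩ ⟨t', m'⟩ he
    have h := congrArg stateOf he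
    simp only [f, stateOf_mul_right m.2, stateOf_mul_right m'.2, hs] at h
    obtain rfl := Fin.ext (stOf_inj states_ok t.isLt t'.isLt h)
    exact Prod.ext rfl (Subtype.ext (mul_left_cancel he))
  have hcard : Nat.card P4 ≤ Nat.card (Fin 19530 × gensK 1) := by
    rw [Nat.card_prod, Nat.card_eq_fintype_card (α := Fin 19530), Fintype.card_fin, card_P4_eq]
    exact le_trans (by norm_num) (Nat.mul_le_mul_left 19530 card_gensK_one)
  obtain ⟨⟨t, m⟩, hx⟩ := ((Nat.bijective_iff_injective_and_card f).2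
    ⟨hf, le_antisymm (Nat.card_le_card_of_injective f hf) hcard⟩).2 g
  exact ⟨t, m.1, m.2, hx.symm⟩

theorem exists_index (g : P4) : ∃ x < 19530, stateOf g = stOf (tab x) := by
  obtain ⟨n, hs, hn⟩ := coset_reps
  obtain ⟨t, m, hm, rfl⟩ := hn g
  exact ⟨t.val, t.isLt, by rw [stateOf_mul_right hm, hs]⟩

theorem mem_gensK_one {g : P4} (h : stateOf g = stateOf 1) : g ∈ gensK 1 := by
  obtain ⟨n, hs, hn⟩ := coset_reps
  obtain ⟨t, m, hm, rfl⟩ := hn g
  obtain ⟨t₁, m₁, hm₁, h1⟩ := hn 1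
  have e1 : stateOf (n t₁) = stateOf 1 := by
    conv_rhs => rw [h1, stateOf_mul_right hm₁]
  rw [stateOf_mul_right hm, ← e1, hs, hs] at h
  obtain rfl := Fin.ext (stOf_inj states_ok t.isLt t₁.isLt h)
  rw [eq_inv_of_mul_eq_one_left h1.symm]
  exact mul_mem (inv_mem hm₁) hm

theorem actSt_eq_stateOf (g n : P4) : actSt g (stateOf n) = stateOf (g⁻¹ * n) := by
  rw [stateOf_mul_left, inv_inv]

theorem seen_all {P : ℕ → Prop} {s n : ℕ} (h : SeenOK P s) (he : s = 2 ^ n - 1) : ∀ i < n, P i := fun i hi =>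
  h i (by rw [he, Nat.testBit_two_pow_sub_one]; simpa using hi)

/-- What an entry of the first table is. -/
def IsConjEntry (i : ℕ) : Prop :=
  i < 1375 ∧ ∃ u ∈ gensK 1, (∃ g, u = g⁻¹ * tN * g) ∧ Pres (conjQ.get i) u

theorem conj_all : ∀ i < 1375, IsConjEntry i := by
  refine seen_all (goE_sound (fun t x g hx ht hok => ?_) conjSteps conjSeen ?_) conj_steps
  · obtain ⟨-, u, hu, ⟨g₀, hg₀⟩, hp⟩ := hx
    simp only [conjStep, Bool.and_eq_true, Nat.blt_eq, LyRep.strict_eq] at hok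
    obtain ⟨hg, hm⟩ := hok
    obtain ⟨hall, hlen⟩ := mGen_small
    have hgl : g < mGen.length := by omega
    set w := mGen.getD g [] with hw
    have hwN : isN w = true := by
      rw [hw, List.getD_eq_getElem _ _ hgl]
      exact List.all_eq_true.1 hall _ (List.getElem_mem hgl)
    have hwM : pw w ∈ gensK 1 := by
      refine Subgroup.subset_closure ⟨w, ?_, rfl⟩
      rw [genW, show Nat.beq 1 1 = true from rfl, cond_true, hw, List.getD_eq_getElem _ _ hgl]
      exact List.getElem_mem hgl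
    refine ⟨ht, (pw w)⁻¹ * u * pw w, mul_mem (mul_mem (inv_mem hwM) hu) hwM,
      ⟨g₀ * pw w, by rw [hg₀]; group⟩, matchE_sound (fun i => ?_) hm⟩
    show vword w (vlin (rowsE (conjQ.get x)) (vword (wInv w) (uRow i.val))) = _
    rw [uRow_eq, ← vact_word (isN_iff.1 (isN_wInv hwN)), vact_pres hp, ← vact_word (isN_iff.1 hwN)]
    rw [show ((wInv w).map L).prod = pw (wInv w) from rfl, show (w.map L).prod = pw w from rfl, pw_wInv,
      ← vact_mul, ← vact_mul, Mg_row, mul_assoc]
  · unfold conjSeen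
    have hr := conj_roots
    revert hr
    induction conjRoots with
    | nil => exact fun _ => seenOK_zero _
    | cons r rs ih =>
      intro hr
      simp only [List.all_cons, Bool.and_eq_true] at hr
      refine seenOK_lor (ih hr.2) ?_
      have h := hr.1
      simp only [conjRootOK, Bool.and_eq_true, Nat.blt_eq] at h
      obtain ⟨hw, hlt, hm, hp⟩ := h
      have hW : isN (rootW r.1) = true := by
        rw [rootW, isN_append, isN_append, isN_wInv hw, hw]; rfl
      refine ⟨hlt, pw (rootW r.1), ?_, ⟨pw r.1, by rw [rootW, pw_append, pw_append, pw_wInv]; rfl⟩,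
        matchE_sound (fun i => ?_) hm⟩
      · have e := pairsOK_sound (g := pw (rootW r.1)) (fun c => vact_pw_word hW c) hp
        have e' : stateOf (pw (rootW r.1))⁻¹ = stateOf 1 := by
          rw [stateOf, stateOf, inv_inv, inv_one, actSt_one, e]
        exact inv_mem_iff.1 (mem_gensK_one e')
      · show vword (rootW r.1) (uRow i.val) = _
        rw [uRow_eq, Mg_row, ← vact_word (isN_iff.1 hW)]
        rfl

/-- The conjugates of the involution in G₂(5). -/
def cls : Set P4 := {v | ∃ g, v = g⁻¹ * tN * g}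

theorem fix_count (S : Finset ℕ) (hS : ∀ x ∈ S, x < 19530 ∧ FixSt x) : S.card ≤ 66 := by
  classical
  have key : ∀ (l : List ℕ) (lo c : ℕ), countFix l lo = c ∧ l.length = 3255 → lo + 3255 ≤ 19530 → c < 100000 →
      (S.filter fun x => lo ≤ x ∧ x < lo + 3255).card ≤ c := by
    rintro l lo c ⟨hc, hl⟩ hlo hlt
    rw [← hc] at hlt ⊢
    exact countFix_sound states_ok l lo _ (by omega) hlt fun x hx => by
      obtain ⟨h1, h2, h3⟩ := Finset.mem_filter.1 hx
      exact ⟨h2, by omega, (hS x h1).2⟩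
  have h0 := key _ _ _ fix_part0 (by norm_num) (by norm_num)
  have h1 := key _ _ _ fix_part1 (by norm_num) (by norm_num)
  have h2 := key _ _ _ fix_part2 (by norm_num) (by norm_num)
  have h3 := key _ _ _ fix_part3 (by norm_num) (by norm_num)
  have h4 := key _ _ _ fix_part4 (by norm_num) (by norm_num)
  have h5 := key _ _ _ fix_part5 (by norm_num) (by norm_num)
  have hsub : S ⊆ (((((S.filter fun x => 0 ≤ x ∧ x < 0 + 3255) ∪ S.filter fun x => 3255 ≤ x ∧ x < 3255 + 3255) ∪
      S.filter fun x => 6510 ≤ x ∧ x < 6510 + 3255) ∪ S.filter fun x => 9765 ≤ x ∧ x < 9765 + 3255) ∪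
      S.filter fun x => 13020 ≤ x ∧ x < 13020 + 3255) ∪ S.filter fun x => 16275 ≤ x ∧ x < 16275 + 3255 := by
    intro x hx
    have := (hS x hx).1
    simp only [Finset.mem_union, Finset.mem_filter, hx, true_and]
    omega
  refine (Finset.card_le_card hsub).trans ?_
  refine (Finset.card_union_le _ _).trans ?_
  refine le_trans (Nat.add_le_add ((Finset.card_union_le _ _).trans (Nat.add_le_add ((Finset.card_union_le _ _).trans
    (Nat.add_le_add ((Finset.card_union_le _ _).trans (Nat.add_le_add ((Finset.card_union_le _ _).trans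
    (Nat.add_le_add h0 h1)) h2)) h3)) h4)) h5) ?_
  norm_num

/-- The fixed states. -/
noncomputable def fixSet : Finset ℕ :=
  @Finset.filter ℕ FixSt (Classical.decPred _) (Finset.range 19530)

theorem mem_fixSet {x : ℕ} : x ∈ fixSet ↔ x < 19530 ∧ FixSt x := by simp [fixSet]

theorem card_fixSet : fixSet.card ≤ 66 := fix_count _ fun _ hx => mem_fixSet.1 hx

theorem card_cls : 19530 * 1375 ≤ Nat.card cls * 66 := by
  classical
  obtain ⟨n, hs, -⟩ := coset_reps
  choose u hu hconj hpres using fun i : Fin 1375 => (conj_all i.val i.isLt).2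
  choose g hg using fun v : cls => v.2
  have hv : ∀ (x : Fin 19530) (i : Fin 1375), n x * u i * (n x)⁻¹ ∈ cls := fun x i => by
    obtain ⟨g₀, h₀⟩ := hconj i
    exact ⟨g₀ * (n x)⁻¹, by rw [h₀]; group⟩
  choose idx hidx hidxs using fun (p : Fin 19530 × Fin 1375) =>
    exists_index (g ⟨_, hv p.1 p.2⟩ * n p.1)
  have hfix : ∀ p, idx p ∈ fixSet := by
    intro p
    refine mem_fixSet.2 ⟨hidx p, ?_⟩
    have hgv := hg ⟨_, hv p.1 p.2⟩
    dsimp only at hgv
    rw [FixSt, ← hidxs p, actSt_eq_stateOf]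
    rw [show tN⁻¹ * (g ⟨_, hv p.1 p.2⟩ * n p.1) = g ⟨_, hv p.1 p.2⟩ *
      ((g ⟨_, hv p.1 p.2⟩)⁻¹ * tN * g ⟨_, hv p.1 p.2⟩)⁻¹ * n p.1 by group, ← hgv]
    rw [show g ⟨_, hv p.1 p.2⟩ * (n p.1 * u p.2 * (n p.1)⁻¹)⁻¹ * n p.1 =
      g ⟨_, hv p.1 p.2⟩ * n p.1 * (u p.2)⁻¹ by group, stateOf_mul_right (inv_mem (hu p.2))]
  let Φ : Fin 19530 × Fin 1375 → cls × fixSet := fun p => (⟨_, hv p.1 p.2⟩, ⟨idx p, hfix p⟩)
  have hΦ : Function.Injective Φ := by
    rintro ⟨x, i⟩ ⟨x', i'⟩ he
    have e1 : (⟨_, hv x i⟩ : cls) = ⟨_, hv x' i'⟩ := congrArg Prod.fst he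
    have e2 : idx (x, i) = idx (x', i') := congrArg (fun q => (q.2 : ℕ)) he
    have h1 := hidxs (x, i)
    have h2 := hidxs (x', i')
    dsimp only at h1 h2
    rw [← e1] at h2
    rw [← e2, ← h1, stateOf_mul_left, stateOf_mul_left] at h2
    have h3 := congrArg (actSt (g ⟨_, hv x i⟩)) h2
    rw [← actSt_mul, ← actSt_mul, inv_mul_cancel, actSt_one, actSt_one, hs, hs] at h3
    obtain rfl := Fin.ext (stOf_inj states_ok x'.isLt x.isLt h3)
    have e3 : u i = u i' := mul_left_cancel (mul_right_cancel (congrArg Subtype.val e1))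
    have h4 := hpres i'
    rw [← e3] at h4
    exact Prod.ext rfl (Fin.ext (entry_inj conj_sorted i.isLt i'.isLt (hpres i) h4))
  have := Nat.card_le_card_of_injective Φ hΦ
  rw [Nat.card_prod, Nat.card_prod, Nat.card_eq_finsetCard, Nat.card_eq_fintype_card, Fintype.card_fin,
    Nat.card_eq_fintype_card (α := Fin 1375), Fintype.card_fin] at this
  exact this.trans (Nat.mul_le_mul_left _ card_fixSet)

/-- The centraliser in G₂(5). -/
noncomputable def CN : Subgroup P4 := Subgroup.centralizer {tN}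

theorem mem_CN {c : P4} : c ∈ CN ↔ tN * c = c * tN := by
  rw [CN, Subgroup.mem_centralizer_iff]; simp

theorem card_cls_mul : Nat.card cls * Nat.card CN ≤ 5859000000 := by
  classical
  choose g hg using fun v : cls => v.2
  rw [← card_P4_eq, ← Nat.card_prod]
  refine Nat.card_le_card_of_injective (fun x => (x.2 : P4) * g x.1) ?_
  rintro ⟨v, c⟩ ⟨v', c'⟩ he
  dsimp only at he
  have key : ∀ (w : cls) (d : CN), ((d : P4) * g w)⁻¹ * tN * ((d : P4) * g w) = w.1 := fun w d => by
    rw [hg w, show ((d : P4) * g w)⁻¹ * tN * ((d : P4) * g w) = (g w)⁻¹ * ((d : P4)⁻¹ * (tN * d)) * g w by group,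
      mem_CN.1 d.2, inv_mul_cancel_left]
  obtain rfl : v = v' := Subtype.ext (by rw [← key v c, he, key v' c'])
  exact Prod.ext rfl (Subtype.ext (mul_right_cancel he))

theorem card_CN : Nat.card CN ≤ 14400 := by
  have h1 := card_cls
  have h2 := card_cls_mul
  have h4 : 406875 * Nat.card CN ≤ Nat.card cls * Nat.card CN := Nat.mul_le_mul_right _ (by omega)
  omega

theorem tN_sq : tN * tN = 1 := by
  refine rho7_injective (Units.ext ?_)
  refine eq_of_unit fun k => encV_injective ?_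
  rw [map_one, Units.val_one, Matrix.vecMul_one]
  have h : ∀ k : Fin 7, vword (tW ++ tW) (encV (unitV k)) = encV (unitV k) := by decide +kernel
  rw [show tN * tN = pw (tW ++ tW) from (pw_append _ _).symm]
  show encV (vact (unitV k) (pw (tW ++ tW))) = _
  rw [pw, vact_word (by decide +kernel), h]

theorem tN_ne : tN ≠ 1 := by
  intro e
  have h : vword tW (encV (unitV 0)) ≠ encV (unitV 0) ∨ vword tW (encV (unitV 2)) ≠ encV (unitV 2) ∨
      vword tW (encV (unitV 5)) ≠ encV (unitV 5) := by decide +kernel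
  rcases h with h | h | h <;>
    exact h (by rw [← vact_word (show ∀ x ∈ tW, x < 8 by decide +kernel), show (tW.map L).prod = tN from rfl, e, vact_one])

/-- What an entry of a stabiliser table is. -/
def IsElEntry (k : ℕ) (T : Q ℕ) (n i : ℕ) : Prop := i < n ∧ ∃ h ∈ gensK k, Pres (T.get i) h

theorem el_all {k : ℕ} {T : Q ℕ} {n one : ℕ} {steps : List ℕ} {rows : List (List (ℕ × ℕ))}
    (hone : Nat.blt one n = true ∧ matchE (fun i => expC (Nat.shiftLeft 1 (3 * i))) (T.get one) = true)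
    (hsteps : goE (elStep T rows) n steps (Nat.shiftLeft 1 one) = 2 ^ n - 1) (hr : rowsOKfor k rows = true) :
    ∀ i < n, IsElEntry k T n i := by
  refine seen_all (goE_sound (fun t x g hx ht hok => ?_) steps _ ?_) hsteps
  · obtain ⟨-, h, hh, hp⟩ := hx
    simp only [elStep, Bool.and_eq_true, Nat.blt_eq, LyRep.strict_eq] at hok
    obtain ⟨hg, hm⟩ := hok
    simp only [rowsOKfor, Bool.and_eq_true, decide_eq_true_eq] at hr
    obtain ⟨hN, hr⟩ := hr
    subst hr
    rw [List.length_map] at hg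
    rw [List.getD_eq_getElem _ _ (by rwa [List.length_map]), List.getElem_map] at hm
    set w := (genW k)[g]
    have hw : isN w = true := List.all_eq_true.1 hN _ (List.getElem_mem hg)
    refine ⟨ht, h * (pw w)⁻¹, mul_mem hh (inv_mem (Subgroup.subset_closure ⟨w, List.getElem_mem hg, rfl⟩)),
      matchE_sound (fun i => ?_) hm⟩
    rw [Mg_mul_row, ← pw_wInv]
    rw [clin_ofFn ((rho7 (pw (wInv w)) : (LyRep.Mat 7)ˣ) : LyRep.Mat 7) ?_ (cv (T.get x) i.val)]
    · have e : decC (cv (T.get x) i.val) = Mg h i := encV_injective (by rw [← expC_eq]; exact hp i)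
      rw [e]; rfl
    refine congrArg List.ofFn (funext fun j => ?_)
    rw [pw, ← vact_word (isN_iff.1 (isN_wInv hw)), vact, unitV, Matrix.single_one_vecMul]
    rfl
  · have h : ∀ i : Fin 7, expC (Nat.shiftLeft 1 (3 * i.val)) = encV (Mg 1 i) := fun i => by
      rw [Mg_row, vact_one]; revert i; decide +kernel
    intro t ht
    have ht' : Nat.testBit (1 <<< one) t = true := ht
    rw [Nat.one_shiftLeft, Nat.testBit_two_pow, decide_eq_true_eq] at ht'
    subst ht'
    have hlt : one < n := by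
      have := hone.1
      rwa [Nat.blt_eq] at this
    exact ⟨hlt, 1, one_mem _, matchE_sound h hone.2⟩

theorem inv_count {k : ℕ} (hk : k ∈ [1, 2, 3, 4]) {T : Q ℕ} {n c : ℕ} (hn : stabOrders.getD k 0 = n)
    (hall : ∀ i < n, IsElEntry k T n i) (hsort : sortedE T n = true) (hc : countInv T n = c) :
    Nat.card {h : stabP k // h * h = 1 ∧ h ≠ 1} ≤ c := by
  classical
  choose h hh hp using fun i : Fin n => (hall i.val i.isLt).2
  have hmem : ∀ i, h i ∈ stabP k := fun i => LyLower.stabP_eq_gensK hk ▸ hh i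
  let f : Fin n → stabP k := fun i => ⟨h i, hmem i⟩
  have hf : Function.Injective f := fun i j e => by
    have e' : h i = h j := congrArg Subtype.val e
    have h2 := hp j
    rw [← e'] at h2
    exact Fin.ext (entry_inj hsort i.isLt j.isLt (hp i) h2)
  have hbij : Function.Bijective f := (Nat.bijective_iff_injective_and_card f).2
    ⟨hf, by rw [LyLower.card_stabP hk, hn, Nat.card_eq_fintype_card, Fintype.card_fin]⟩
  let S : Finset ℕ := ((Finset.univ : Finset (Fin n)).filter fun i => h i * h i = 1 ∧ h i ≠ 1).image Fin.val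
  have hS : S.card ≤ countInv T n := countInv_le S fun i hi => by
    obtain ⟨j, hj, rfl⟩ := Finset.mem_image.1 hi
    obtain ⟨-, h2, h1⟩ := Finset.mem_filter.1 hj
    exact ⟨j.isLt, isInvE_of (hp j) h2 h1⟩
  rw [Finset.card_image_of_injective _ Fin.val_injective, hc] at hS
  refine le_trans (le_of_eq ?_) hS
  rw [← Nat.card_eq_finsetCard]
  refine (Nat.card_congr ((Equiv.ofBijective f hbij).subtypeEquiv (fun i => ?_))).symm
  simp only [Finset.mem_filter, Finset.mem_univ, true_and, Equiv.ofBijective_apply, f, Subtype.ext_iff,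
    Subgroup.coe_mul, Subgroup.coe_one, ne_eq]

/-- The fixed cosets within one orbit. -/
def fixIn (k : Fin 5) : Set (P4 ⧸ stabP k.val) := {q | toLy tN • toPt ⟨k, q⟩ = toPt ⟨k, q⟩}

theorem mem_of_fixIn {k : Fin 5} {g : P4} (h : (g : P4 ⧸ stabP k.val) ∈ fixIn k) :
    g⁻¹ * tN * g ∈ stabP k.val := by
  have h' : toLy tN • toLy g • pt k.val = toLy g • pt k.val := h
  rw [stabP, Subgroup.mem_comap, MulAction.mem_stabilizer_iff, map_mul, map_mul, map_inv, mul_smul, mul_smul, h',
    inv_smul_smul]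

theorem card_fixIn_mul (k : Fin 5) : Nat.card (fixIn k) * Nat.card (stabP k.val) ≤
    Nat.card {h : stabP k.val // h * h = 1 ∧ h ≠ 1} * Nat.card CN := by
  classical
  set A := {h : stabP k.val // h * h = 1 ∧ h ≠ 1}
  let G' := {g : P4 // g⁻¹ * tN * g ∈ stabP k.val}
  have h1 : Nat.card (fixIn k) * Nat.card (stabP k.val) ≤ Nat.card G' := by
    rw [← Nat.card_prod]
    have hm : ∀ x : fixIn k × stabP k.val, (x.1.1.out * x.2.1)⁻¹ * tN * (x.1.1.out * x.2.1) ∈ stabP k.val := fun x => by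
      have := mem_of_fixIn (k := k) (g := x.1.1.out) (by rw [QuotientGroup.out_eq']; exact x.1.2)
      rw [show (x.1.1.out * x.2.1)⁻¹ * tN * (x.1.1.out * x.2.1) = x.2.1⁻¹ * (x.1.1.out⁻¹ * tN * x.1.1.out) * x.2.1
        by group]
      exact mul_mem (mul_mem (inv_mem x.2.2) this) x.2.2
    refine Nat.card_le_card_of_injective (fun x => (⟨_, hm x⟩ : G')) ?_
    rintro ⟨q, h⟩ ⟨q', h'⟩ he
    have he' : q.1.out * h.1 = q'.1.out * h'.1 := congrArg Subtype.val he
    have hq : q.1 = q'.1 := by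
      rw [← QuotientGroup.out_eq' q.1, ← QuotientGroup.out_eq' q'.1, QuotientGroup.eq,
        show (q.1.out)⁻¹ * q'.1.out = h.1 * h'.1⁻¹ by rw [eq_mul_inv_iff_mul_eq, mul_assoc, ← he', inv_mul_cancel_left]]
      exact mul_mem h.2 (inv_mem h'.2)
    obtain rfl : q = q' := Subtype.ext hq
    exact Prod.ext rfl (Subtype.ext (mul_left_cancel he'))
  refine h1.trans ?_
  rw [← Nat.card_prod]
  have hA : ∀ x : G', (⟨x.1⁻¹ * tN * x.1, x.2⟩ : stabP k.val) * ⟨x.1⁻¹ * tN * x.1, x.2⟩ = 1 ∧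
      (⟨x.1⁻¹ * tN * x.1, x.2⟩ : stabP k.val) ≠ 1 := fun x => by
    refine ⟨Subtype.ext ?_, fun e => tN_ne ?_⟩
    · show x.1⁻¹ * tN * x.1 * (x.1⁻¹ * tN * x.1) = 1
      rw [show x.1⁻¹ * tN * x.1 * (x.1⁻¹ * tN * x.1) = x.1⁻¹ * (tN * tN) * x.1 by group, tN_sq]
      group
    · have := congrArg Subtype.val e
      simp only [Subgroup.coe_one] at this
      calc tN = x.1 * (x.1⁻¹ * tN * x.1) * x.1⁻¹ := by group
        _ = 1 := by rw [this]; group
  let v : G' → A := fun x => ⟨⟨_, x.2⟩, hA x⟩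
  choose r hr using fun a : Set.range v => a.2
  have hC : ∀ x : G', x.1 * (r ⟨v x, x, rfl⟩).1⁻¹ ∈ CN := fun x => by
    have e : (r ⟨v x, x, rfl⟩).1⁻¹ * tN * (r ⟨v x, x, rfl⟩).1 = x.1⁻¹ * tN * x.1 :=
      congrArg (fun a : A => (a.1 : P4)) (hr ⟨v x, x, rfl⟩)
    rw [mem_CN]
    calc tN * (x.1 * (r ⟨v x, x, rfl⟩).1⁻¹) = x.1 * (x.1⁻¹ * tN * x.1) * (r ⟨v x, x, rfl⟩).1⁻¹ := by group
      _ = _ := by rw [← e]; group
  refine Nat.card_le_card_of_injective (fun x => (v x, (⟨_, hC x⟩ : CN))) ?_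
  intro x y he
  have e1 : v x = v y := congrArg Prod.fst he
  have e2 : x.1 * (r ⟨v x, x, rfl⟩).1⁻¹ = y.1 * (r ⟨v y, y, rfl⟩).1⁻¹ := congrArg (fun q => (q.2 : P4)) he
  have e3 : (⟨v x, x, rfl⟩ : Set.range v) = ⟨v y, y, rfl⟩ := Subtype.ext e1
  rw [e3] at e2
  exact Subtype.ext (mul_right_cancel e2)

theorem card_fixIn_zero : Nat.card (fixIn 0) ≤ 1 := by
  refine (Finite.card_subtype_le _).trans ?_
  rw [← Subgroup.index, show stabP (0 : Fin 5).val = ⊤ from stabP_zero, Subgroup.index_top]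

theorem card_fixIn_one : Nat.card (fixIn 1) ≤ 66 := by
  classical
  choose idx hidx hs using fun q : fixIn 1 => exists_index q.1.out
  have hmem : ∀ q, idx q ∈ fixSet := fun q => by
    refine mem_fixSet.2 ⟨hidx q, ?_⟩
    have h := mem_of_fixIn (k := 1) (g := q.1.out) (by rw [QuotientGroup.out_eq']; exact q.2)
    replace h : q.1.out⁻¹ * tN * q.1.out ∈ stabP 1 := h
    rw [LyLower.stabP_eq_gensK one_mem14] at h
    rw [FixSt, ← hs q, actSt_eq_stateOf,
      show tN⁻¹ * q.1.out = q.1.out * (q.1.out⁻¹ * tN * q.1.out)⁻¹ by group, stateOf_mul_right (inv_mem h)]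
  refine (Nat.card_le_card_of_injective (fun q => (⟨idx q, hmem q⟩ : fixSet)) fun q q' he => ?_).trans
    (by rw [Nat.card_eq_finsetCard]; exact card_fixSet)
  have e : idx q = idx q' := congrArg Subtype.val he
  have h2 : stateOf q.1.out = stateOf q'.1.out := by rw [hs, hs, e]
  have h3 : q.1.out⁻¹ * q'.1.out ∈ gensK 1 := mem_gensK_one (by
    rw [stateOf_mul_left, ← h2, ← stateOf_mul_left, inv_mul_cancel])
  refine Subtype.ext ?_
  rw [← QuotientGroup.out_eq' q.1, ← QuotientGroup.out_eq' q'.1, QuotientGroup.eq]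
  exact (SetLike.ext_iff.1 (LyLower.stabP_eq_gensK one_mem14) _).2 h3

theorem card_fixIn_small : Nat.card (fixIn 2) ≤ 150 ∧ Nat.card (fixIn 3) ≤ 1500 ∧ Nat.card (fixIn 4) ≤ 1055 := by
  obtain ⟨-, w2, w3, w4⟩ := rows_ok
  have c2 := inv_count (k := 2) (by simp) rfl (el_all el2_one el2_steps w2) el2_sorted el2_count
  have c3 := inv_count (k := 3) (by simp) rfl (el_all el3_one el3_steps w3) el3_sorted el3_count
  have c4 := inv_count (k := 4) (by simp) rfl (el_all el4_one el4_steps w4) el4_sorted el4_count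
  have hN := card_CN
  refine ⟨?_, ?_, ?_⟩
  · have h : Nat.card (fixIn 2) * Nat.card (stabP 2) ≤
        Nat.card {h : stabP 2 // h * h = 1 ∧ h ≠ 1} * Nat.card CN := card_fixIn_mul 2
    rw [LyLower.card_stabP (k := 2) (by simp), show stabOrders.getD 2 0 = 6048 from rfl] at h
    have := h.trans (Nat.mul_le_mul c2 hN)
    omega
  · have h : Nat.card (fixIn 3) * Nat.card (stabP 3) ≤
        Nat.card {h : stabP 3 // h * h = 1 ∧ h ≠ 1} * Nat.card CN := card_fixIn_mul 3
    rw [LyLower.card_stabP (k := 3) (by simp), show stabOrders.getD 3 0 = 1008 from rfl] at h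
    have := h.trans (Nat.mul_le_mul c3 hN)
    omega
  · have h : Nat.card (fixIn 4) * Nat.card (stabP 4) ≤
        Nat.card {h : stabP 4 // h * h = 1 ∧ h ≠ 1} * Nat.card CN := card_fixIn_mul 4
    rw [LyLower.card_stabP (k := 4) (by simp), show stabOrders.getD 4 0 = 2880 from rfl] at h
    have := h.trans (Nat.mul_le_mul c4 hN)
    omega

/-- The involution in the presented group. -/
noncomputable def tG : Spor.Ly := toLy tN

/-- The fixed cosets. -/
def fixAll : Set (Spor.Ly ⧸ N0) := {p | tG • p = p}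

theorem card_fixAll : Nat.card fixAll ≤ 2772 := by
  have hsurj : Function.Surjective (fun x : Σ k : Fin 5, fixIn k => (⟨toPt ⟨x.1, x.2.1⟩, x.2.2⟩ : fixAll)) := by
    rintro ⟨p, hp⟩
    obtain ⟨⟨k, q⟩, rfl⟩ := toPt_surjective p
    exact ⟨⟨k, q, hp⟩, rfl⟩
  refine (Nat.card_le_card_of_surjective _ hsurj).trans ?_
  rw [Nat.card_sigma, Fin.sum_univ_five]
  have := card_fixIn_zero
  have := card_fixIn_one
  obtain ⟨h2, h3, h4⟩ := card_fixIn_small
  omega

/-- The centraliser in the presented group. -/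
noncomputable def CG : Subgroup Spor.Ly := Subgroup.centralizer {tG}

theorem mem_CG {c : Spor.Ly} : c ∈ CG ↔ tG * c = c * tG := by
  rw [CG, Subgroup.mem_centralizer_iff]; simp

theorem card_CG_le : Nat.card CG ≤ 39916800 := by
  classical
  have hbase : tG • ((1 : Spor.Ly) : Spor.Ly ⧸ N0) = ((1 : Spor.Ly) : Spor.Ly ⧸ N0) := by
    rw [MulAction.Quotient.smul_coe, smul_eq_mul, mul_one, QuotientGroup.eq, mul_one, inv_mem_iff]
    exact ⟨tN, rfl⟩
  have hfix : ∀ c : CG, ((c.1 : Spor.Ly) : Spor.Ly ⧸ N0) ∈ fixAll := fun c => by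
    show tG • ((c.1 : Spor.Ly) : Spor.Ly ⧸ N0) = _
    rw [MulAction.Quotient.smul_coe, smul_eq_mul, mem_CG.1 c.2, QuotientGroup.eq]
    rw [show (c.1 * tG)⁻¹ * c.1 = tG⁻¹ by group, inv_mem_iff]
    exact ⟨tN, rfl⟩
  let f : CG → fixAll := fun c => ⟨_, hfix c⟩
  choose r hr using fun a : Set.range f => a.2
  have hN : ∀ c : CG, ∃ d : CN, toLy d.1 = (r ⟨f c, c, rfl⟩).1⁻¹ * c.1 := fun c => by
    have e : (((r ⟨f c, c, rfl⟩).1 : Spor.Ly) : Spor.Ly ⧸ N0) = ((c.1 : Spor.Ly) : Spor.Ly ⧸ N0) :=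
      congrArg Subtype.val (hr ⟨f c, c, rfl⟩)
    obtain ⟨d, hd⟩ := QuotientGroup.eq.1 e
    refine ⟨⟨d, ?_⟩, hd⟩
    rw [mem_CN]
    refine toLy_injective ?_
    rw [map_mul, map_mul, hd]
    exact mem_CG.1 (mul_mem (inv_mem (r ⟨f c, c, rfl⟩).2) c.2)
  choose d hd using hN
  have hinj : Function.Injective fun c => (f c, d c) := by
    intro x y he
    have e1 : f x = f y := congrArg Prod.fst he
    have e2 : toLy (d x).1 = toLy (d y).1 := congrArg (fun q => toLy (q.2 : CN).1) he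
    rw [hd, hd, show (⟨f x, x, rfl⟩ : Set.range f) = ⟨f y, y, rfl⟩ from Subtype.ext e1] at e2
    exact Subtype.ext (mul_left_cancel e2)
  refine (Nat.card_le_card_of_injective _ hinj).trans ?_
  rw [Nat.card_prod]
  exact (Nat.mul_le_mul card_fixAll card_CN).trans (by norm_num)

end CfsgLib.Sporadic.LyInv
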