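import Cfsg.Prelude.Def_SporadicB
import Cfsg.Agent.Lib.Perm.AltBounded.Carmichael

/-!
# Double covers of alternating groups from Carmichael's relations (owner: helper25)
-/

set_option autoImplicit false

namespace CfsgLib.Sporadic.LyInv

open Cfsg CfsgLib.Perm.AltBounded

/-- A non-split double cover carries over along an isomorphism. -/
theorem isNonsplit_of_equiv {C D K : Type*} [Group C] [Group D] [Group K] (e : C ≃* D)
    (h : IsNonsplitDoubleCover C K) : IsNonsplitDoubleCover D K := by
  obtain ⟨h2, ⟨q⟩, hL⟩ := h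
  have hmap : (Subgroup.center C).map (e : C →* D) = Subgroup.center D := by
    ext x
    simp only [Subgroup.mem_map, Subgroup.mem_center_iff, MonoidHom.coe_coe]
    constructor
    · rintro ⟨c, hc, rfl⟩ g
      obtain ⟨a, rfl⟩ := e.surjective g
      rw [← map_mul, hc a, map_mul]
    · exact fun hx => ⟨e.symm x, fun g => e.injective (by simp [hx (e g)]), e.apply_symm_apply x⟩
  refine ⟨?_, ⟨(QuotientGroup.congr _ _ e hmap).symm.trans q⟩, fun L hc => hL (L.comap (e : C →* D)) ?_⟩
  · rw [← hmap, Subgroup.card_map_of_injective e.injective, h2]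
  · refine Subgroup.isComplement'_of_disjoint_and_mul_eq_univ (Subgroup.disjoint_def.2 fun {x} hx hxL => ?_) ?_
    · refine e.injective ?_
      rw [map_one]
      exact Subgroup.disjoint_def.1 hc.disjoint (hmap ▸ Subgroup.mem_map_of_mem _ hx) hxL
    · refine Set.eq_univ_of_forall fun x => ?_
      obtain ⟨⟨⟨z, hz⟩, ⟨l, hl⟩⟩, he⟩ := hc.2 (e x)
      refine ⟨e.symm z, ?_, e.symm l, ?_, ?_⟩
      · rw [← hmap] at hz
        obtain ⟨c, hc', rfl⟩ := hz
        simpa using hc'
      · simpa using hl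
      · exact e.injective (by simpa using he)

/-- Carmichael's relations up to a central involution, with the order bound, give the double cover. -/
theorem isNonsplit_alt11 {C : Type*} [Group C] [Finite C] (x : ℕ → C) (z : C) (hz : ∀ c, c * z = z * c)
    (hz2 : z * z = 1) (hz1 : z ≠ 1) (h3 : ∀ i < 9, x i * x i * x i = 1)
    (hp : ∀ i j, i < j → j < 9 → x i * x j * (x i * x j) = z) (hcard : Nat.card C ≤ 39916800) :
    IsNonsplitDoubleCover C (alternatingGroup (Fin 11)) := by
  classical
  set Z : Subgroup C := Subgroup.zpowers z with hZ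
  have hle : Z ≤ Subgroup.center C := Subgroup.zpowers_le.2 (Subgroup.mem_center_iff.2 hz)
  have hnorm : Z.Normal := ⟨fun n hn g => by
    rw [show g * n * g⁻¹ = n by rw [(Subgroup.mem_center_iff.1 (hle hn)) g, mul_inv_cancel_right]]; exact hn⟩
  have hzc : Nat.card Z = 2 := by
    rw [hZ, Nat.card_zpowers, orderOf_eq_prime (by rw [pow_two, hz2]) hz1]
  have hq : ∀ c : C, (c : C ⧸ Z) = 1 ↔ c ∈ Z := fun c => QuotientGroup.eq_one_iff c
  have hzq : (z : C ⧸ Z) = 1 := (hq z).2 (Subgroup.mem_zpowers z)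
  have hp' : ∀ i j, i ≠ j → i < 9 → j < 9 → x i * x j * (x i * x j) = z := by
    intro i j hij hi hj
    rcases lt_or_gt_of_ne hij with h | h
    · exact hp i j h hj
    · rw [show x i * x j * (x i * x j) = x i * (x j * x i * (x j * x i)) * (x i)⁻¹ by group, hp j i h hi, hz,
        mul_inv_cancel_right]
  have hsq : ∀ n ∈ Z, n * n = 1 := by
    intro n hn
    obtain ⟨k, rfl⟩ := Subgroup.mem_zpowers_iff.1 hn
    rw [← (Commute.refl z).mul_zpow, hz2, one_zpow]
  let y : Fin 11 → C ⧸ Z := fun k => (x (k.val - 2) : C ⧸ Z)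
  obtain ⟨f, hf, hfy⟩ := exists_homOn (Finset.univ : Finset (Fin 11)) (A := 0) (B := 1) (Finset.mem_univ _)
    (Finset.mem_univ _) (by decide) y
    (fun i _ h0 h1 => by
      show (x (i.val - 2) : C ⧸ Z) * x (i.val - 2) * x (i.val - 2) = 1
      rw [← QuotientGroup.mk_mul, ← QuotientGroup.mk_mul, h3 _ (by omega), QuotientGroup.mk_one])
    (fun i _ j _ a b c d hij => by
      show (x (i.val - 2) : C ⧸ Z) * x (j.val - 2) * ((x (i.val - 2) : C ⧸ Z) * x (j.val - 2)) = 1
      rw [← QuotientGroup.mk_mul, ← QuotientGroup.mk_mul, hp' _ _ ?_ (by omega) (by omega), hzq]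
      intro e
      exact hij (Fin.ext (by omega)))
  have hmem : ∀ u : alternatingGroup (Fin 11), (u : Equiv.Perm (Fin 11)) ∈ altOn (Finset.univ : Finset (Fin 11)) :=
    fun u => by rw [altOn_univ]; exact u.2
  let φ : alternatingGroup (Fin 11) →* C ⧸ Z := MonoidHom.mk' (fun u => f u.1) fun u v => hf _ (hmem u) _ (hmem v)
  have : IsSimpleGroup (alternatingGroup (Fin 11)) := alternatingGroup.isSimpleGroup (by simp)
  have hx0 : (x 0 : C ⧸ Z) ≠ 1 := by
    intro e
    have h2 := hsq _ ((hq _).1 e)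
    have e0 : x 0 = 1 := by have := h3 0 (by norm_num); rwa [h2, one_mul] at this
    have e1 := hp 0 1 (by norm_num) (by norm_num)
    rw [e0, one_mul] at e1
    have e2 := h3 1 (by norm_num)
    rw [e1] at e2
    have e3 : x 1 = z := by rw [eq_inv_of_mul_eq_one_right e2, inv_eq_of_mul_eq_one_left hz2]
    exact hz1 (by rw [← e1, e3, hz2])
  have hinj : Function.Injective φ := by
    refine (MonoidHom.ker_eq_bot_iff φ).1 ((φ.normal_ker.eq_bot_or_eq_top).resolve_right fun h => hx0 ?_)
    have hc : cyc (0 : Fin 11) 1 2 ∈ alternatingGroup (Fin 11) := by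
      rw [← altOn_univ]; exact cyc_mem (by decide) (by decide) (by decide) (Finset.mem_univ _) (Finset.mem_univ _)
        (Finset.mem_univ _)
    have h1 : φ ⟨_, hc⟩ = 1 := MonoidHom.mem_ker.1 (h ▸ Subgroup.mem_top _)
    exact (hfy 2 (Finset.mem_univ _) (by decide) (by decide)).symm.trans h1
  have halt : Nat.card (alternatingGroup (Fin 11)) = 19958400 := by
    rw [nat_card_alternatingGroup, Nat.card_eq_fintype_card, Fintype.card_fin]; rfl
  have hC : Nat.card C = Nat.card (C ⧸ Z) * 2 := by rw [Z.card_eq_card_quotient_mul_card_subgroup, hzc]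
  have hle' := Nat.card_le_card_of_injective φ hinj
  have hbij : Function.Bijective φ := (Nat.bijective_iff_injective_and_card φ).2 ⟨hinj, by omega⟩
  let q : alternatingGroup (Fin 11) ≃* C ⧸ Z := MulEquiv.ofBijective φ hbij
  have hcenter : Subgroup.center C = Z := by
    refine le_antisymm (fun c hc => ?_) hle
    rw [← hq]
    have hcq : q.symm (c : C ⧸ Z) ∈ Subgroup.center (alternatingGroup (Fin 11)) := by
      rw [Subgroup.mem_center_iff]
      intro g
      refine q.injective ?_
      obtain ⟨d, hd⟩ := QuotientGroup.mk_surjective (q g)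
      rw [map_mul, map_mul, q.apply_symm_apply, ← hd, ← QuotientGroup.mk_mul, ← QuotientGroup.mk_mul,
        Subgroup.mem_center_iff.1 hc d]
    rw [alternatingGroup.center_eq_bot (by simp), Subgroup.mem_bot] at hcq
    rw [← q.apply_symm_apply (c : C ⧸ Z), hcq, map_one]
  refine ⟨by rw [hcenter, hzc], ⟨(QuotientGroup.quotientMulEquivOfEq hcenter).trans q.symm⟩, fun L hc => ?_⟩
  obtain ⟨⟨⟨a, ha⟩, ⟨l, hl⟩⟩, he0⟩ := hc.2 (x 0)
  obtain ⟨⟨⟨b, hb⟩, ⟨m, hm⟩⟩, he1⟩ := hc.2 (x 1)
  simp only at he0 he1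
  have hab : a * b * (a * b) = 1 := hsq _ (mul_mem (hcenter ▸ ha) (hcenter ▸ hb))
  have e := hp 0 1 (by norm_num) (by norm_num)
  have hca := Subgroup.mem_center_iff.1 ha
  have hcb := Subgroup.mem_center_iff.1 hb
  have hzL : z = l * m * (l * m) := by
    rw [← e, ← he0, ← he1]
    calc a * l * (b * m) * (a * l * (b * m)) = a * (l * b) * m * (a * (l * b) * m) := by group
      _ = a * (b * l) * m * (a * (b * l) * m) := by rw [hcb l]
      _ = a * b * ((l * m) * (a * b)) * (l * m) := by group
      _ = a * b * ((a * b) * (l * m)) * (l * m) := by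
        rw [Subgroup.mem_center_iff.1 (mul_mem ha hb) (l * m)]
      _ = a * b * (a * b) * (l * m * (l * m)) := by group
      _ = l * m * (l * m) := by rw [hab, one_mul]
  refine hz1 (Subgroup.disjoint_def.1 hc.disjoint (hle (Subgroup.mem_zpowers z)) ?_)
  rw [hzL]
  exact mul_mem (mul_mem hl hm) (mul_mem hl hm)

end CfsgLib.Sporadic.LyInv
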