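import Cfsg.Agent.Lib.Sporadic.LyInv.AltRels
import Cfsg.Agent.Lib.Sporadic.LyInv.Count
import Cfsg.Agent.Lib.Sporadic.LyInv.Double
import Cfsg.Agent.Lib.Sporadic.LyInv.Action

/-!
# The centraliser of the involution is 2.A11 (owner: helper25)
-/

set_option autoImplicit false
set_option maxRecDepth 20000

namespace CfsgLib.Sporadic.LyInv

open Cfsg CfsgLib.Sporadic CfsgLib.Sporadic.LyGTwo CfsgLib.Sporadic.LyCoset
open CfsgLib.Sporadic.LyLower (uw gw)
open CfsgLib.Sporadic.LyRep (rho)

/-- The elements given by the words. -/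
noncomputable def xG (i : ℕ) : Spor.Ly := ev (altW.getD i [])

theorem altW_small : ∀ i : Fin 10, ∀ x ∈ altW.getD i.val [], x < 10 := by decide +kernel

theorem rho_xG_prod {u : List ℕ} (hu : ∀ i ∈ u, i < 10) : rho (u.map xG).prod = gw altW u := by
  rw [map_list_prod, List.map_map, gw]
  exact congrArg List.prod (List.map_congr_left fun i hi => LyLower.rho_word (altW_small ⟨i, hu i hi⟩))

theorem rel_xG {u v : List ℕ} (h : eqN' altD 10 u v = true) : (u.map xG).prod = (v.map xG).prod := by
  have he := eqN'_sound altDense_ok h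
  simp only [eqN', Bool.and_eq_true, List.all_eq_true, Nat.blt_eq] at h
  exact rho_injective (by rw [rho_xG_prod h.1, rho_xG_prod h.2.1, he])

theorem xG_nine : xG 9 = tG := by
  rw [tG, tN, toLy_pw (by decide +kernel)]
  exact congrArg ev (show altW.getD 9 [] = tW by decide +kernel)

theorem xG_mem {i : ℕ} (hi : i < 9) : xG i ∈ CG := by
  have h := rel_xG (alt_cube i hi).2
  simp only [List.map_cons, List.map_nil, List.prod_cons, List.prod_nil, mul_one, xG_nine] at h
  exact mem_CG.2 h

theorem xG_cube {i : ℕ} (hi : i < 9) : xG i * xG i * xG i = 1 := by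
  have h := rel_xG (alt_cube i hi).1
  simp only [List.map_cons, List.map_nil, List.prod_cons, List.prod_nil, mul_one] at h
  rw [mul_assoc, h]

theorem xG_pair {i j : ℕ} (hij : i < j) (hj : j < 9) : xG i * xG j * (xG i * xG j) = tG := by
  have h := rel_xG (alt_pairs i j hij hj)
  simp only [List.map_cons, List.map_nil, List.prod_cons, List.prod_nil, mul_one, xG_nine] at h
  rw [mul_assoc, h]

theorem tG_mul_self : tG * tG = 1 := by rw [tG, ← map_mul, tN_sq, map_one]

theorem tG_ne : tG ≠ 1 := fun h => tN_ne (toLy_injective (h.trans (map_one toLy).symm))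

theorem isNonsplit_CG : IsNonsplitDoubleCover CG (alternatingGroup (Fin 11)) := by
  classical
  have := finite_Ly
  have ht : tG ∈ CG := mem_CG.2 rfl
  refine isNonsplit_alt11 (fun i => if hi : i < 9 then ⟨xG i, xG_mem hi⟩ else 1) (⟨tG, ht⟩ : CG)
    (fun c => Subtype.ext (mem_CG.1 c.2).symm) (Subtype.ext tG_mul_self) (fun h => tG_ne (congrArg Subtype.val h))
    (fun i hi => ?_) (fun i j hij hj => ?_) card_CG_le
  · simp only [hi, dite_true]
    exact Subtype.ext (xG_cube hi)
  · simp only [hj, show i < 9 by omega, dite_true]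
    exact Subtype.ext (xG_pair hij hj)

theorem lyons_exists : ∃ H : Subgroup (Equiv.Perm (Fin 8835156)), IsLy H ∧ MulAction.IsPretransitive H (Fin 8835156) ∧
    IsG2 (MulAction.stabilizer H (0 : Fin 8835156)) ∧ ∃ t : H, orderOf t = 2 ∧
      IsNonsplitDoubleCover (Subgroup.centralizer ({t} : Set H)) (alternatingGroup (Fin 11)) := by
  have := finite_Ly
  have := LyLower.simple
  obtain ⟨H, ψ, htr, hst⟩ := exists_perm (n := 8835156) N0 LyLower.index_eq
    fun h => by have := LyLower.index_eq; rw [h, Subgroup.index_top] at this; omega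
  refine ⟨H, ⟨(MulEquiv.isSimpleGroup_congr ψ).1 LyLower.simple, by rw [← Nat.card_congr ψ.toEquiv, LyLower.card_eq]⟩, htr, ?_, ψ tG, ?_, ?_⟩
  · have e : P4 ≃* MulAction.stabilizer H (0 : Fin 8835156) :=
      ((MonoidHom.ofInjective toLy_injective).trans (ψ.subgroupMap N0)).trans (MulEquiv.subgroupCongr hst.symm)
    obtain ⟨hs, q, hq, h3, hc⟩ := isG2_P4
    exact ⟨(MulEquiv.isSimpleGroup_congr e).1 hs, q, hq, h3, by rw [← Nat.card_congr e.toEquiv, hc]⟩
  · rw [orderOf_eq_prime_iff]
    refine ⟨by rw [← map_pow, pow_two, tG_mul_self, map_one], fun h => tG_ne ?_⟩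
    exact ψ.injective (h.trans (map_one ψ).symm)
  · refine isNonsplit_of_equiv ((ψ.subgroupMap CG).trans (MulEquiv.subgroupCongr ?_)) isNonsplit_CG
    ext x
    obtain ⟨g, rfl⟩ := ψ.surjective x
    rw [Subgroup.mem_centralizer_singleton_iff, ← map_mul, ← map_mul, ψ.injective.eq_iff]
    refine ⟨?_, fun h => ⟨g, mem_CG.2 h.symm, rfl⟩⟩
    rintro ⟨k, hk, h⟩
    rw [← ψ.injective h]
    exact (mem_CG.1 hk).symm

end CfsgLib.Sporadic.LyInv
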