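import Cfsg.Agent.Lib.Sporadic.LyInv.AltData

set_option autoImplicit false
set_option maxRecDepth 20000
set_option Elab.async false

/-! The rows present the words (owner: helper25). -/

namespace CfsgLib.Sporadic.LyInv

open CfsgLib.Sporadic.LyLower

theorem altDense0 : denseOK (altW.getD 0 []) altRows0 = true := by decide +kernel

theorem altDense1 : denseOK (altW.getD 1 []) altRows1 = true := by decide +kernel

theorem altDense2 : denseOK (altW.getD 2 []) altRows2 = true := by decide +kernel

theorem altDense3 : denseOK (altW.getD 3 []) altRows3 = true := by decide +kernel

theorem altDense4 : denseOK (altW.getD 4 []) altRows4 = true := by decide +kernel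

theorem altDense5 : denseOK (altW.getD 5 []) altRows5 = true := by decide +kernel

theorem altDense6 : denseOK (altW.getD 6 []) altRows6 = true := by decide +kernel

theorem altDense7 : denseOK (altW.getD 7 []) altRows7 = true := by decide +kernel

end CfsgLib.Sporadic.LyInv
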