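import Cfsg.Agent.Lib.Sporadic.LyInv.AltData

set_option autoImplicit false
set_option maxRecDepth 20000
set_option Elab.async false

/-! The rows present the words (owner: helper25). -/

namespace CfsgLib.Sporadic.LyInv

open CfsgLib.Sporadic.LyLower

theorem altDense8 : denseOK (altW.getD 8 []) altRows8 = true := by decide +kernel

theorem altDense9 : denseOK (altW.getD 9 []) altRows9 = true := by decide +kernel

end CfsgLib.Sporadic.LyInv
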