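import Cfsg.Agent.Lib.Sporadic.LyInv.AltData

set_option autoImplicit false
set_option maxRecDepth 20000
set_option Elab.async false

/-! Squares of products (owner: helper25). -/

namespace CfsgLib.Sporadic.LyInv

open CfsgLib.Sporadic.LyLower

theorem altPair0_1 : eqN' altD 10 [0, 1, 0, 1] [9] = true := by decide +kernel

theorem altPair0_2 : eqN' altD 10 [0, 2, 0, 2] [9] = true := by decide +kernel

theorem altPair0_3 : eqN' altD 10 [0, 3, 0, 3] [9] = true := by decide +kernel

theorem altPair0_4 : eqN' altD 10 [0, 4, 0, 4] [9] = true := by decide +kernel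

theorem altPair0_5 : eqN' altD 10 [0, 5, 0, 5] [9] = true := by decide +kernel

theorem altPair0_6 : eqN' altD 10 [0, 6, 0, 6] [9] = true := by decide +kernel

end CfsgLib.Sporadic.LyInv
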