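import Cfsg.Agent.Lib.Sporadic.LyInv.AltData

set_option autoImplicit false
set_option maxRecDepth 20000
set_option Elab.async false

/-! Squares of products (owner: helper25). -/

namespace CfsgLib.Sporadic.LyInv

open CfsgLib.Sporadic.LyLower

theorem altPair3_7 : eqN' altD 10 [3, 7, 3, 7] [9] = true := by decide +kernel

theorem altPair3_8 : eqN' altD 10 [3, 8, 3, 8] [9] = true := by decide +kernel

theorem altPair4_5 : eqN' altD 10 [4, 5, 4, 5] [9] = true := by decide +kernel

theorem altPair4_6 : eqN' altD 10 [4, 6, 4, 6] [9] = true := by decide +kernel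

theorem altPair4_7 : eqN' altD 10 [4, 7, 4, 7] [9] = true := by decide +kernel

theorem altPair4_8 : eqN' altD 10 [4, 8, 4, 8] [9] = true := by decide +kernel

end CfsgLib.Sporadic.LyInv
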