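import Cfsg.Agent.Lib.Sporadic.LyInv.AltData

set_option autoImplicit false
set_option maxRecDepth 20000
set_option Elab.async false

/-! Squares of products (owner: helper25). -/

namespace CfsgLib.Sporadic.LyInv

open CfsgLib.Sporadic.LyLower

theorem altCube0 : eqN' altD 10 [0, 0, 0] [] = true ∧ eqN' altD 10 [9, 0] [0, 9] = true := by decide +kernel

theorem altCube1 : eqN' altD 10 [1, 1, 1] [] = true ∧ eqN' altD 10 [9, 1] [1, 9] = true := by decide +kernel

theorem altCube2 : eqN' altD 10 [2, 2, 2] [] = true ∧ eqN' altD 10 [9, 2] [2, 9] = true := by decide +kernel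

theorem altCube3 : eqN' altD 10 [3, 3, 3] [] = true ∧ eqN' altD 10 [9, 3] [3, 9] = true := by decide +kernel

theorem altCube4 : eqN' altD 10 [4, 4, 4] [] = true ∧ eqN' altD 10 [9, 4] [4, 9] = true := by decide +kernel

theorem altCube5 : eqN' altD 10 [5, 5, 5] [] = true ∧ eqN' altD 10 [9, 5] [5, 9] = true := by decide +kernel

end CfsgLib.Sporadic.LyInv
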