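import Cfsg.Agent.Lib.Sporadic.LyInv.AltData

set_option autoImplicit false
set_option maxRecDepth 20000
set_option Elab.async false

/-! Squares of products (owner: helper25). -/

namespace CfsgLib.Sporadic.LyInv

open CfsgLib.Sporadic.LyLower

theorem altCube6 : eqN' altD 10 [6, 6, 6] [] = true ∧ eqN' altD 10 [9, 6] [6, 9] = true := by decide +kernel

theorem altCube7 : eqN' altD 10 [7, 7, 7] [] = true ∧ eqN' altD 10 [9, 7] [7, 9] = true := by decide +kernel

theorem altCube8 : eqN' altD 10 [8, 8, 8] [] = true ∧ eqN' altD 10 [9, 8] [8, 9] = true := by decide +kernel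

end CfsgLib.Sporadic.LyInv
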