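import Cfsg.Agent.Lib.Sporadic.LyInv.AltDenseA
import Cfsg.Agent.Lib.Sporadic.LyInv.AltDenseB
import Cfsg.Agent.Lib.Sporadic.LyInv.AltPairs1
import Cfsg.Agent.Lib.Sporadic.LyInv.AltPairs2
import Cfsg.Agent.Lib.Sporadic.LyInv.AltPairs3
import Cfsg.Agent.Lib.Sporadic.LyInv.AltPairs4
import Cfsg.Agent.Lib.Sporadic.LyInv.AltPairs5
import Cfsg.Agent.Lib.Sporadic.LyInv.AltPairs6
import Cfsg.Agent.Lib.Sporadic.LyInv.AltPairs7
import Cfsg.Agent.Lib.Sporadic.LyInv.AltPairs8

set_option autoImplicit false
set_option maxRecDepth 20000
set_option Elab.async false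

/-! The relations of the nine elements (owner: helper25). -/

namespace CfsgLib.Sporadic.LyInv

open CfsgLib.Sporadic.LyLower

theorem altDense_ok : DenseN altW altD 10 := by
  intro i hi
  interval_cases i
  · exact denseOK_sound altDense0
  · exact denseOK_sound altDense1
  · exact denseOK_sound altDense2
  · exact denseOK_sound altDense3
  · exact denseOK_sound altDense4
  · exact denseOK_sound altDense5
  · exact denseOK_sound altDense6
  · exact denseOK_sound altDense7
  · exact denseOK_sound altDense8
  · exact denseOK_sound altDense9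

theorem alt_cube : ∀ i < 9, eqN' altD 10 [i, i, i] [] = true ∧ eqN' altD 10 [9, i] [i, 9] = true := by
  intro i hi
  interval_cases i
  · exact altCube0
  · exact altCube1
  · exact altCube2
  · exact altCube3
  · exact altCube4
  · exact altCube5
  · exact altCube6
  · exact altCube7
  · exact altCube8

theorem alt_pairs : ∀ i j, i < j → j < 9 → eqN' altD 10 [i, j, i, j] [9] = true := by
  intro i j hij hj
  interval_cases j <;> interval_cases i
  · exact altPair0_1
  · exact altPair0_2
  · exact altPair1_2
  · exact altPair0_3
  · exact altPair1_3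
  · exact altPair2_3
  · exact altPair0_4
  · exact altPair1_4
  · exact altPair2_4
  · exact altPair3_4
  · exact altPair0_5
  · exact altPair1_5
  · exact altPair2_5
  · exact altPair3_5
  · exact altPair4_5
  · exact altPair0_6
  · exact altPair1_6
  · exact altPair2_6
  · exact altPair3_6
  · exact altPair4_6
  · exact altPair5_6
  · exact altPair0_7
  · exact altPair1_7
  · exact altPair2_7
  · exact altPair3_7
  · exact altPair4_7
  · exact altPair5_7
  · exact altPair6_7
  · exact altPair0_8
  · exact altPair1_8
  · exact altPair2_8
  · exact altPair3_8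
  · exact altPair4_8
  · exact altPair5_8
  · exact altPair6_8
  · exact altPair7_8

end CfsgLib.Sporadic.LyInv
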