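import Cfsg.Agent.Lib.Sporadic.LyInv.FixDefs
import Cfsg.Agent.Lib.Sporadic.LyInv.ConjData

set_option autoImplicit false
set_option maxRecDepth 20000
set_option Elab.async false

/-! At least 1375 conjugates of the involution lie in the first stabiliser (owner: helper25). -/

namespace CfsgLib.Sporadic.LyInv

open CfsgLib.Sporadic CfsgLib.Sporadic.LyGTwo CfsgLib.Sporadic.LyCoset

/-- The packed unit row. -/
noncomputable def uRow (i : ℕ) : ℕ := Nat.shiftLeft 1 (24 * i)

theorem uRow_eq : ∀ i : Fin 7, uRow i.val = encV (unitV i) := by decide +kernel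

/-- A conjugation step. -/
noncomputable def conjStep (t x g : ℕ) : Bool :=
  Nat.blt g 8 && LyRep.strict (conjQ.get x) fun px => LyRep.strict (conjQ.get t) fun pt =>
    matchE (fun i => vword (mGen.getD g []) (vlin (rowsE px) (vword (wInv (mGen.getD g [])) (uRow i)))) pt

/-- The word of a root. -/
noncomputable def rootW (w : List ℕ) : List ℕ := wInv w ++ tW ++ w

/-- A checked root. -/
noncomputable def conjRootOK (r : List ℕ × ℕ × ℕ) : Bool :=
  isN r.1 && (Nat.blt r.2.1 1375 && (matchE (fun i => vword (rootW r.1) (uRow i)) (conjQ.get r.2.1) &&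
    pairsOK (fun c => vword (rootW r.1) (expC c)) (tab baseIdx) (tab baseIdx) r.2.2))

/-- What the roots mark. -/
noncomputable def conjSeen : ℕ := conjRoots.foldr (fun r s => Nat.lor s (Nat.shiftLeft 1 r.2.1)) 0

theorem conj_roots : conjRoots.all conjRootOK = true := by decide +kernel

theorem conj_steps : goE conjStep 1375 conjSteps conjSeen = 2 ^ 1375 - 1 := by decide +kernel

theorem conj_sorted : sortedE conjQ 1375 = true := by decide +kernel

theorem mGen_small : mGen.all isN = true ∧ mGen.length = 8 := by decide +kernel

end CfsgLib.Sporadic.LyInv
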