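import Cfsg.Agent.Lib.Sporadic.LyLower.Cert

/-!
# Words in any number of elements given by packed rows (owner: helper25)
-/

set_option autoImplicit false
set_option maxRecDepth 20000

namespace CfsgLib.Sporadic.LyInv

open CfsgLib.Sporadic CfsgLib.Sporadic.LyLower
open CfsgLib.Sporadic.LyRep (Mat strict strict_eq packF)
open scoped Matrix

/-- The rows present the words. -/
def DenseN (G : List (List ℕ)) (D : List (List (ℕ × ℕ))) (n : ℕ) : Prop :=
  ∀ i < n, D.getD i [] = List.ofFn fun k : Fin 111 =>
    (packF 111 (fun j => (((uw (G.getD i []) : Gam) : Mat 111) k j).val), 24 * k.val)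

theorem dwordN_eq {G : List (List ℕ)} {D : List (List (ℕ × ℕ))} {n : ℕ} (hD : DenseN G D n) :
    ∀ {w : List ℕ}, (∀ x ∈ w, x < n) → ∀ v : Col,
      dword D w (encCol v) = encCol (v ᵥ* ((gw G w : Gam) : Mat 111))
  | [], _, v => by simp [dword, gw]
  | g :: w, h, v => by
    show strict (LyRep.red LyRep.maskLit (rdot (D.getD g []) (encCol v))) (dword D w) = _
    rw [strict_eq, rdot_eq _ (hD g (h g List.mem_cons_self)), dwordN_eq hD fun x hx => h x (List.mem_cons_of_mem _ hx),
      Matrix.vecMul_vecMul, gw, gw, List.map_cons, List.prod_cons, Units.val_mul]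

/-- Two words with the same images of all unit rows. -/
noncomputable def eqN' (D : List (List (ℕ × ℕ))) (n : ℕ) (u v : List ℕ) : Bool :=
  (u.all fun x => Nat.blt x n) && ((v.all fun x => Nat.blt x n) &&
    (List.range 111).all fun k => strict (Nat.shiftLeft 1 (24 * k)) fun e => Nat.beq (dword D u e) (dword D v e))

theorem eqN'_sound {G : List (List ℕ)} {D : List (List (ℕ × ℕ))} {n : ℕ} (hD : DenseN G D n) {u v : List ℕ}
    (h : eqN' D n u v = true) : gw G u = gw G v := by
  simp only [eqN', Bool.and_eq_true, List.all_eq_true, Nat.blt_eq, List.mem_range, strict_eq, Nat.beq_eq] at h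
  obtain ⟨hu, hv, he⟩ := h
  refine Units.ext (Matrix.ext fun i j => ?_)
  have h1 := he i.val i.isLt
  rw [← unit_enc, dwordN_eq hD hu, dwordN_eq hD hv] at h1
  have h2 := congrFun (encCol_injective h1) j
  simpa [Matrix.single_one_vecMul] using h2

end CfsgLib.Sporadic.LyInv
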