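import Cfsg.Agent.Lib.Sporadic.LyInv.Table

/-!
# Counting involutions in a listed subgroup (owner: helper25)
-/

set_option autoImplicit false
set_option maxRecDepth 20000

namespace CfsgLib.Sporadic.LyInv

open CfsgLib.Sporadic CfsgLib.Sporadic.LyGTwo CfsgLib.Sporadic.LyCoset
open CfsgLib.Sporadic.LyRep (strict strict_eq)
open CfsgLib.Recog.SporBound (Q)

/-- A right multiplication by an inverse generator. -/
noncomputable def elStep (T : Q ℕ) (rows : List (List (ℕ × ℕ))) (t x g : ℕ) : Bool :=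
  Nat.blt g rows.length && strict (T.get x) fun px => strict (T.get t) fun pt =>
    matchE (fun i => LyRep.red sevMask (colDot 7 (rows.getD g []) (cv px i))) pt

/-- An entry is an involution. -/
noncomputable def isInvE (p : ℕ) : Bool :=
  matchE (fun i => vlin (rowsE p) (rowE p i)) (Nat.lor (Nat.lor (Nat.lor (Nat.lor (Nat.lor (Nat.lor 1
    (Nat.shiftLeft 1 24)) (Nat.shiftLeft 1 48)) (Nat.shiftLeft 1 72)) (Nat.shiftLeft 1 96)) (Nat.shiftLeft 1 120))
    (Nat.shiftLeft 1 144)) &&
  !(matchE (fun i => Nat.shiftLeft 1 (24 * i)) p)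

/-- The number of involutions. -/
noncomputable def countInv (T : Q ℕ) (n : ℕ) : ℕ := ((List.range n).filter fun i => isInvE (T.get i)).length

theorem countInv_le {T : Q ℕ} {n : ℕ} (S : Finset ℕ) (hS : ∀ i ∈ S, i < n ∧ isInvE (T.get i) = true) :
    S.card ≤ countInv T n := by
  have h : S ⊆ ((List.range n).filter fun i => isInvE (T.get i)).toFinset := fun i hi => by
    simp [hS i hi]
  exact (Finset.card_le_card h).trans (List.toFinset_card_le _)

/-- The identity entry. -/
noncomputable def oneE : ℕ :=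
  Nat.lor (Nat.lor (Nat.lor (Nat.lor (Nat.lor (Nat.lor 1 (Nat.shiftLeft 1 24)) (Nat.shiftLeft 1 48))
    (Nat.shiftLeft 1 72)) (Nat.shiftLeft 1 96)) (Nat.shiftLeft 1 120)) (Nat.shiftLeft 1 144)

theorem pres_oneE : Pres oneE 1 := by
  intro i
  rw [Mg_row, vact_one]
  revert i
  decide +kernel

theorem isInvE_of {p : ℕ} {g : P4} (h : Pres p g) (h2 : g * g = 1) (h1 : g ≠ 1) : isInvE p = true := by
  have hm : ∀ {f : ℕ → ℕ} {q : ℕ}, (∀ i : Fin 7, f i.val = rowE q i.val) → matchE f q = true := fun {f q} hf => by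
    simp only [matchE, Bool.and_eq_true, Nat.beq_eq]
    exact ⟨hf 0, hf 1, hf 2, hf 3, hf 4, hf 5, hf 6⟩
  simp only [isInvE, Bool.and_eq_true, Bool.not_eq_true']
  constructor
  · refine hm fun i => ?_
    show vlin (rowsE p) (rowE p i.val) = _
    rw [h i, vact_pres h, ← Mg_mul_row, h2]
    exact (pres_oneE i).symm
  · by_contra hne
    rw [Bool.not_eq_false] at hne
    have hu : ∀ i : Fin 7, Nat.shiftLeft 1 (24 * i.val) = encV (Mg 1 i) := fun i => by
      rw [Mg_row, vact_one]; revert i; decide +kernel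
    exact h1 (Pres_unique h (matchE_sound hu hne))

end CfsgLib.Sporadic.LyInv
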