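import Cfsg.Agent.Lib.Sporadic.LyInv.Table

/-!
# The involution and counting fixed states (owner: helper25)
-/

set_option autoImplicit false
set_option maxRecDepth 20000

namespace CfsgLib.Sporadic.LyInv

open CfsgLib.Sporadic CfsgLib.Sporadic.LyGTwo CfsgLib.Sporadic.LyCoset
open CfsgLib.Sporadic.LyRep (strict strict_eq)

/-- The word of the involution. -/
def tW : List ℕ := [0, 0, 0, 0]

/-- The involution. -/
noncomputable def tN : P4 := pw tW

/-- An upper bound for the fixed states among consecutive ones, from their listed images. -/
noncomputable def countFix (l : List ℕ) : ℕ → ℕ :=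
  List.rec (motive := fun _ => ℕ → ℕ) (fun _ => 0)
    (fun p _ ih x =>
      cond (Nat.blt (Nat.land p 32767) 19530 && strict (tab x) fun px => strict (tab (Nat.land p 32767)) fun pt =>
          pairsOK (fun c => vword tW (expC c)) px pt (Nat.shiftRight p 15))
        (cond (Nat.beq (Nat.land p 32767) x) 1 0 + strict (x + 1) ih) 100000) l

/-- A state fixed by the involution. -/
def FixSt (x : ℕ) : Prop := actSt tN (stOf (tab x)) = stOf (tab x)

theorem countFix_sound (hok : ∀ t < 19530, stateOK t = true) : ∀ (l : List ℕ) (lo : ℕ) (S : Finset ℕ),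
    lo + l.length ≤ 19530 → countFix l lo < 100000 → (∀ x ∈ S, lo ≤ x ∧ x < lo + l.length ∧ FixSt x) →
    S.card ≤ countFix l lo
  | [], lo, S, _, _, hS => by
    have : S = ∅ := Finset.eq_empty_of_forall_notMem fun x hx => by
      obtain ⟨h1, h2, -⟩ := hS x hx
      simp at h2
      omega
    simp [this]
  | p :: l, lo, S, hlen, hlt, hS => by
    classical
    have e : countFix (p :: l) lo = cond (Nat.blt (Nat.land p 32767) 19530 && strict (tab lo) fun px =>
        strict (tab (Nat.land p 32767)) fun pt => pairsOK (fun c => vword tW (expC c)) px pt (Nat.shiftRight p 15))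
        (cond (Nat.beq (Nat.land p 32767) lo) 1 0 + strict (lo + 1) (countFix l)) 100000 := rfl
    rw [e] at hlt ⊢
    cases hc : (Nat.blt (Nat.land p 32767) 19530 && strict (tab lo) fun px =>
        strict (tab (Nat.land p 32767)) fun pt => pairsOK (fun c => vword tW (expC c)) px pt (Nat.shiftRight p 15)) with
    | false => simp only [hc, cond_false] at hlt; omega
    | true =>
      simp only [hc, cond_true, strict_eq] at hlt ⊢
      simp only [strict_eq, Bool.and_eq_true, Nat.blt_eq] at hc
      obtain ⟨htgt, hp⟩ := hc
      have hb : Nat.blt (Nat.land p 32767) 19530 = true := by rw [Nat.blt_eq]; exact htgt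
      simp only [hb, hp, Bool.and_self, cond_true] at hlt
      simp only [List.length_cons] at hlen hS
      have himg := pairsOK_sound (g := tN) (fun c => vact_pw_word (by decide +kernel) c) hp
      have hrec := countFix_sound hok l (lo + 1) (S.erase lo) (by omega) (by omega) fun x hx => by
        obtain ⟨hne, hx⟩ := Finset.mem_erase.1 hx
        obtain ⟨h1, h2, h3⟩ := hS x hx
        exact ⟨by omega, by omega, h3⟩
      by_cases hlo : lo ∈ S
      · have hfix := (hS lo hlo).2.2
        rw [FixSt, himg] at hfix
        rw [stOf_inj hok htgt (by omega) hfix, Nat.beq_refl, cond_true]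
        have := Finset.card_erase_add_one hlo
        omega
      · rw [Finset.erase_eq_of_notMem hlo] at hrec
        omega

end CfsgLib.Sporadic.LyInv
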