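import Cfsg.Agent.Lib.Sporadic.LyCoset.States
import Cfsg.Agent.Lib.Sporadic.LyCoset.Cosets

/-!
# Tables of elements of G₂(5) as seven packed rows (owner: helper25)
-/

set_option autoImplicit false
set_option maxRecDepth 20000

namespace CfsgLib.Sporadic.LyInv

open CfsgLib.Sporadic CfsgLib.Sporadic.LyGTwo CfsgLib.Sporadic.LyCoset
open CfsgLib.Sporadic.LyRep (Mat strict strict_eq)
open CfsgLib.Recog.SporBound (Q)

/-- A row of a packed entry, expanded. -/
noncomputable def rowE (p i : ℕ) : ℕ := expC (cv p i)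

/-- The rows of an entry with their shifts. -/
noncomputable def rowsE (p : ℕ) : List (ℕ × ℕ) :=
  [(rowE p 0, 0), (rowE p 1, 24), (rowE p 2, 48), (rowE p 3, 72), (rowE p 4, 96), (rowE p 5, 120), (rowE p 6, 144)]

/-- A function of the unit rows agrees with an entry. -/
noncomputable def matchE (f : ℕ → ℕ) (p : ℕ) : Bool :=
  Nat.beq (f 0) (rowE p 0) && (Nat.beq (f 1) (rowE p 1) && (Nat.beq (f 2) (rowE p 2) && (Nat.beq (f 3) (rowE p 3) &&
    (Nat.beq (f 4) (rowE p 4) && (Nat.beq (f 5) (rowE p 5) && Nat.beq (f 6) (rowE p 6))))))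

/-- The number of an entry. -/
noncomputable def keyE (p : ℕ) : ℕ :=
  List.rec (motive := fun _ => ℕ → ℕ) (fun k => k) (fun i _ ih k => ih (Nat.shiftLeft k 168 + rowE p i))
    [0, 1, 2, 3, 4, 5, 6] 0

/-- The matrix of an element. -/
noncomputable def Mg (g : P4) : Mat 7 := ((rho7 g : (Mat 7)ˣ) : Mat 7)

/-- An entry presents an element. -/
def Pres (p : ℕ) (g : P4) : Prop := ∀ i : Fin 7, rowE p i.val = encV (Mg g i)

theorem rho7_injective : Function.Injective rho7 := by
  have := isSimple_P4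
  rcases rho7.normal_ker.eq_bot_or_eq_top with h | h
  · exact (MonoidHom.ker_eq_bot_iff _).1 h
  · exfalso
    have h1 : rho7 (L 0) = 1 := by rw [← MonoidHom.mem_ker, h]; exact Subgroup.mem_top _
    rw [rho7_L (by norm_num)] at h1
    have h2 : sevMat 0 = 1 := by rw [← sevUnit_val (show 0 < 8 by norm_num), h1, Units.val_one]
    exact (show sevMat 0 ≠ 1 by decide +kernel) h2

theorem Mg_injective : Function.Injective Mg := fun g h e => rho7_injective (Units.ext e)

theorem rowsE_eq {p : ℕ} {g : P4} (h : Pres p g) :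
    rowsE p = List.ofFn fun k : Fin 7 => (encV (Mg g k), 24 * k.val) := by
  simp only [rowsE, List.ofFn_succ, List.ofFn_zero]
  rw [← h 0, ← h, ← h, ← h, ← h, ← h, ← h]
  rfl

theorem matchE_sound {f : ℕ → ℕ} {p : ℕ} {g : P4} (hf : ∀ i : Fin 7, f i.val = encV (Mg g i))
    (h : matchE f p = true) : Pres p g := by
  simp only [matchE, Bool.and_eq_true, Nat.beq_eq] at h
  obtain ⟨h0, h1, h2, h3, h4, h5, h6⟩ := h
  intro i
  rw [← hf]
  fin_cases i
  exacts [h0.symm, h1.symm, h2.symm, h3.symm, h4.symm, h5.symm, h6.symm]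

theorem Mg_row (g : P4) (i : Fin 7) : Mg g i = vact (unitV i) g := by
  rw [vact, unitV, Matrix.single_one_vecMul]; rfl

theorem Mg_mul_row (g h : P4) (i : Fin 7) : Mg (g * h) i = vact (Mg g i) h := by
  rw [Mg_row, Mg_row, vact_mul]

theorem vact_pres {p : ℕ} {g : P4} (h : Pres p g) (v : V7) : vlin (rowsE p) (encV v) = encV (vact v g) :=
  vlin_ofFn (Mg g) (rowsE_eq h) v

theorem Pres_unique {p : ℕ} {g h : P4} (hg : Pres p g) (hh : Pres p h) : g = h :=
  Mg_injective (funext fun i => encV_injective ((hg i).symm.trans (hh i)))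

theorem key_eq {p q : ℕ} {g : P4} (hp : Pres p g) (hq : Pres q g) : keyE p = keyE q := by
  show ((((((Nat.shiftLeft 0 168 + rowE p 0).shiftLeft 168 + rowE p 1).shiftLeft 168 + rowE p 2).shiftLeft 168 +
    rowE p 3).shiftLeft 168 + rowE p 4).shiftLeft 168 + rowE p 5).shiftLeft 168 + rowE p 6 = _
  have e : ∀ i : Fin 7, rowE p i.val = rowE q i.val := fun i => (hp i).trans (hq i).symm
  have e0 := e 0
  have e1 := e 1
  have e2 := e 2
  have e3 := e 3
  have e4 := e 4
  have e5 := e 5
  have e6 := e 6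
  simp only [Fin.val_zero, Fin.val_one, show ((2 : Fin 7) : ℕ) = 2 from rfl, show ((3 : Fin 7) : ℕ) = 3 from rfl,
    show ((4 : Fin 7) : ℕ) = 4 from rfl, show ((5 : Fin 7) : ℕ) = 5 from rfl, show ((6 : Fin 7) : ℕ) = 6 from rfl]
    at e0 e1 e2 e3 e4 e5 e6
  rw [e0, e1, e2, e3, e4, e5, e6]
  rfl

/-- Keys of consecutive entries increase. -/
noncomputable def sortedE (T : Q ℕ) (n : ℕ) : Bool :=
  (List.range (n - 1)).all fun i => Nat.blt (keyE (T.get i)) (keyE (T.get (i + 1)))

theorem entry_inj {T : Q ℕ} {n : ℕ} (h : sortedE T n = true) {i j : ℕ} (hi : i < n) (hj : j < n) {g : P4}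
    (hp : Pres (T.get i) g) (hq : Pres (T.get j) g) : i = j := by
  simp only [sortedE, List.all_eq_true, List.mem_range, Nat.blt_eq] at h
  have key : ∀ d i, i + d + 1 < n → keyE (T.get i) < keyE (T.get (i + d + 1)) := by
    intro d
    induction d with
    | zero => exact fun i hd => h i (by omega)
    | succ d ih => exact fun i hd => (ih i (by omega)).trans (h (i + d + 1) (by omega))
  have e := key_eq hp hq
  rcases lt_trichotomy i j with hlt | heq | hgt
  · have := key (j - i - 1) i (by omega)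
    rw [show i + (j - i - 1) + 1 = j by omega] at this
    omega
  · exact heq
  · have := key (i - j - 1) j (by omega)
    rw [show j + (i - j - 1) + 1 = i by omega] at this
    omega

/-- Steps in order, marking what is reached; zero on failure. -/
noncomputable def goE (ok : ℕ → ℕ → ℕ → Bool) (n : ℕ) (l : List ℕ) : ℕ → ℕ :=
  List.rec (motive := fun _ => ℕ → ℕ) (fun seen => seen)
    (fun p _ ih seen =>
      cond (Nat.testBit seen (Nat.land (Nat.shiftRight p 15) 32767) && (Nat.blt (Nat.land p 32767) n &&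
          ok (Nat.land p 32767) (Nat.land (Nat.shiftRight p 15) 32767) (Nat.shiftRight p 30)))
        (strict (Nat.lor seen (Nat.shiftLeft 1 (Nat.land p 32767))) ih) 0) l

theorem goE_sound {ok : ℕ → ℕ → ℕ → Bool} {n : ℕ} {P : ℕ → Prop}
    (hstep : ∀ t x g, P x → t < n → ok t x g = true → P t) :
    ∀ (l : List ℕ) (seen : ℕ), SeenOK P seen → SeenOK P (goE ok n l seen)
  | [], _, h => h
  | p :: l, seen, h => by
    show SeenOK P (cond _ (strict (Nat.lor seen (Nat.shiftLeft 1 (Nat.land p 32767))) (goE ok n l)) 0)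
    cases hp : (Nat.testBit seen (Nat.land (Nat.shiftRight p 15) 32767) && (Nat.blt (Nat.land p 32767) n &&
        ok (Nat.land p 32767) (Nat.land (Nat.shiftRight p 15) 32767) (Nat.shiftRight p 30))) with
    | false => exact seenOK_zero P
    | true =>
      rw [cond_true, strict_eq]
      simp only [Bool.and_eq_true, Nat.blt_eq] at hp
      exact goE_sound hstep l _ (seenOK_lor h (hstep _ _ _ (h _ hp.1) hp.2.1 hp.2.2))

end CfsgLib.Sporadic.LyInv
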